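import Mathlib
import Cfsg.Agent.Lib.Transfer.NormalPComplement

/-!
# Real `p`-elements with `p`-nilpotent centralisers

If every nontrivial `p`-element is conjugate to every other and all their centralisers have normal
`p`-complements, then the Sylow `p`-subgroups are elementary abelian: a `2`-element inverting a
nontrivial `p`-subgroup extends to one inverting a Sylow subgroup.
-/

namespace Cfsg.Agent.OneSubsection

variable {G : Type*} [Group G] [Finite G] {p : ℕ} [Fact p.Prime]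

theorem conj_eq_inv_of_odd {t r : G} (h : t * r * t⁻¹ = r⁻¹) {n : ℕ} (hn : Odd n) :
    t ^ n * r * (t ^ n)⁻¹ = r⁻¹ := by
  have h2 : Commute (t ^ 2) r := by
    have h3 : t * r⁻¹ * t⁻¹ = r := by
      calc t * r⁻¹ * t⁻¹ = (t * r * t⁻¹)⁻¹ := by group
        _ = r := by rw [h, inv_inv]
    have : t ^ 2 * r * (t ^ 2)⁻¹ = r := by
      calc t ^ 2 * r * (t ^ 2)⁻¹ = t * (t * r * t⁻¹) * t⁻¹ := by simp [sq, mul_assoc]
        _ = r := by rw [h, h3]
    exact mul_inv_eq_iff_eq_mul.1 this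
  obtain ⟨k, rfl⟩ := hn
  have hk : Commute ((t ^ 2) ^ k) r := h2.pow_left k
  rw [pow_succ', pow_mul, mul_inv_rev]
  calc t * (t ^ 2) ^ k * r * (((t ^ 2) ^ k)⁻¹ * t⁻¹)
      = t * ((t ^ 2) ^ k * r * ((t ^ 2) ^ k)⁻¹) * t⁻¹ := by group
    _ = r⁻¹ := by rw [hk.eq, mul_inv_cancel_right, h]

/-- The `2`-part of an inverting element still inverts. -/
theorem exists_two_part (hp : p ≠ 2) (t : G) :
    ∃ n : ℕ, Odd n ∧ ¬ p ∣ orderOf (t ^ n) := by
  obtain ⟨e, m, hm, he⟩ := Nat.exists_eq_pow_mul_and_not_dvd (orderOf_pos t).ne' 2 (by norm_num)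
  refine ⟨m, Nat.odd_iff.2 (by omega), fun h => ?_⟩
  have h1 : orderOf (t ^ m) ∣ 2 ^ e := orderOf_dvd_of_pow_eq_one (by
    rw [← pow_mul, mul_comm, ← he, pow_orderOf_eq_one])
  exact hp ((Nat.prime_dvd_prime_iff_eq Fact.out Nat.prime_two).1
    ((Fact.out : p.Prime).dvd_of_dvd_pow (h.trans h1)))

/-- In a group with a normal `p`-complement, a `p'`-element centralises the elements of a
`p`-subgroup it normalises. -/
theorem commute_of_complement (hK : Cfsg.HasNormalPComplement p G) {R : Subgroup G}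
    (hR : IsPGroup p R) {t u : G} (ht : ¬ p ∣ orderOf t) (hu : u ∈ R) (htu : t * u * t⁻¹ ∈ R) :
    Commute t u := by
  obtain ⟨N, hN, hNc, k, hk⟩ := Transfer.NormalPComplement.hasNormalPComplement_iff_exists.1 hK
  have htN : t ∈ N := by
    rw [← QuotientGroup.eq_one_iff (N := N), ← orderOf_eq_one_iff]
    refine Nat.eq_one_of_dvd_coprimes
      (Nat.Coprime.pow_left k ((Fact.out : p.Prime).coprime_iff_not_dvd.2 ht))
      (hk ▸ Subgroup.index_eq_card N ▸ orderOf_dvd_natCard _) (orderOf_map_dvd (QuotientGroup.mk' N) t)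
  have h1 : t * u * t⁻¹ * u⁻¹ ∈ N := by
    have := N.mul_mem htN (hN.conj_mem t⁻¹ (inv_mem htN) u)
    simpa [mul_assoc] using this
  have h2 : t * u * t⁻¹ * u⁻¹ ∈ R := R.mul_mem htu (R.inv_mem hu)
  obtain ⟨j, hj⟩ := hR ⟨_, h2⟩
  have h3 : orderOf (t * u * t⁻¹ * u⁻¹) = 1 :=
    Nat.eq_one_of_dvd_coprimes (Nat.Coprime.pow_left j ((Nat.Coprime.symm hNc)))
      (orderOf_dvd_of_pow_eq_one (by simpa using congrArg Subtype.val hj))
      (by rw [← Subgroup.orderOf_mk _ h1]; exact orderOf_dvd_natCard _)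
  rw [orderOf_eq_one_iff, mul_inv_eq_one, mul_inv_eq_iff_eq_mul] at h3
  exact h3

/-- A `p'`-element normalising `R` and centralising one of its nontrivial elements centralises
`R`. -/
theorem commute_all (hcent : ∀ y : G, y ≠ 1 → (∃ k : ℕ, orderOf y = p ^ k) →
      Cfsg.HasNormalPComplement p ↥(Subgroup.centralizer ({y} : Set G)))
    {R : Subgroup G} (hR : IsPGroup p R) {t : G} (ht : ¬ p ∣ orderOf t)
    (htn : ∀ u ∈ R, t * u * t⁻¹ ∈ R) {y : G} (hy : y ∈ R) (hy1 : y ≠ 1) (hty : Commute t y) :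
    ∀ u ∈ R, Commute t u := by
  have step : ∀ w ∈ R, w ≠ 1 → Commute t w → ∀ u ∈ R, Commute u w → Commute t u := by
    intro w hw hw1 htw u hu huw
    obtain ⟨j, hj⟩ := IsPGroup.iff_orderOf.1 hR ⟨w, hw⟩
    set C := Subgroup.centralizer ({w} : Set G) with hC
    have htC : t ∈ C := Subgroup.mem_centralizer_singleton_iff.2 htw
    have huC : u ∈ C := Subgroup.mem_centralizer_singleton_iff.2 huw
    have h := commute_of_complement (hcent w hw1 ⟨j, by rw [← hj, Subgroup.orderOf_mk]⟩)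
      (R := R.subgroupOf C) (t := ⟨t, htC⟩) (u := ⟨u, huC⟩)
      (hR.comap_subtype) (by rwa [Subgroup.orderOf_mk]) (Subgroup.mem_subgroupOf.2 hu)
      (Subgroup.mem_subgroupOf.2 (by simpa using htn u hu))
    exact congrArg Subtype.val h.eq
  haveI : Nontrivial R := ⟨⟨⟨y, hy⟩, 1, fun h => hy1 (congrArg Subtype.val h)⟩⟩
  haveI := hR.center_nontrivial
  obtain ⟨⟨w, hw⟩, hw1⟩ := exists_ne (1 : Subgroup.center R)
  have hcom : ∀ u ∈ R, Commute u (w : G) := fun u hu =>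
    congrArg Subtype.val (Subgroup.mem_center_iff.1 hw ⟨u, hu⟩)
  have hwne : (w : G) ≠ 1 := fun h => hw1 (Subtype.ext (Subtype.ext h))
  have htw : Commute t (w : G) := step y hy hy1 hty w w.2 (hcom y hy).symm
  exact fun u hu => step w w.2 hwne htw u hu (hcom u hu)

/-- The Sylow subgroups are elementary abelian. -/
theorem isElementaryAbelian
    (hcent : ∀ y : G, y ≠ 1 → (∃ k : ℕ, orderOf y = p ^ k) →
      Cfsg.HasNormalPComplement p ↥(Subgroup.centralizer ({y} : Set G)))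
    (hconj : ∀ x y : G, x ≠ 1 → y ≠ 1 → (∃ k : ℕ, orderOf x = p ^ k) →
      (∃ k : ℕ, orderOf y = p ^ k) → IsConj x y)
    (S : Sylow p G) : Cfsg.IsElementaryAbelian p (S : Subgroup G) := by
  have hexp : ∀ a ∈ (S : Subgroup G), a ^ p = 1 := by
    intro a ha
    by_cases ha1 : a = 1
    · simp [ha1]
    obtain ⟨k, hk⟩ := IsPGroup.iff_orderOf.1 S.2 ⟨a, ha⟩
    rw [Subgroup.orderOf_mk] at hk
    have hpG : p ∣ Nat.card G := by
      refine dvd_trans ?_ (hk ▸ orderOf_dvd_natCard a)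
      exact dvd_pow_self p fun h => ha1 (orderOf_eq_one_iff.1 (by rw [hk, h, pow_zero]))
    obtain ⟨y, hy⟩ := exists_prime_orderOf_dvd_card' p hpG
    have hy1 : y ≠ 1 := fun h => by
      rw [h, orderOf_one] at hy; exact (Fact.out : p.Prime).ne_one hy.symm
    obtain ⟨c, hc⟩ := isConj_iff.1 (hconj y a hy1 ha1 ⟨1, by rw [hy, pow_one]⟩ ⟨k, hk⟩)
    rw [← hc, conj_pow, ← hy, pow_orderOf_eq_one, mul_one, mul_inv_cancel]
  refine ⟨?_, hexp⟩
  rcases eq_or_ne p 2 with rfl | hp2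
  · refine ⟨⟨fun a b => Subtype.ext ?_⟩⟩
    have h : ∀ c : (S : Subgroup G), (c : G)⁻¹ = c := fun c =>
      inv_eq_of_mul_eq_one_right (by simpa [sq] using hexp c c.2)
    calc (a : G) * b = ((a * b : (S : Subgroup G)) : G)⁻¹ := (h (a * b)).symm
      _ = (b : G) * a := by rw [Subgroup.coe_mul, mul_inv_rev, h a, h b]
  by_contra hna
  -- inverted subgroups
  let Good : Subgroup G → Prop := fun R => IsPGroup p R ∧ R ≠ ⊥ ∧
    ∃ t : G, ¬ p ∣ orderOf t ∧ ∀ r ∈ R, t * r * t⁻¹ = r⁻¹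
  obtain ⟨z, hz, hz1⟩ : ∃ z ∈ (S : Subgroup G), z ≠ 1 := by
    by_contra h
    push Not at h
    exact hna ⟨⟨fun a b => Subtype.ext (by simp [h a a.2, h b b.2])⟩⟩
  have hzp : ∃ k : ℕ, orderOf z = p ^ k := by
    obtain ⟨k, hk⟩ := IsPGroup.iff_orderOf.1 S.2 ⟨z, hz⟩
    exact ⟨k, by rwa [Subgroup.orderOf_mk] at hk⟩
  have hex : ∃ R, Good R := by
    obtain ⟨g, hg⟩ := isConj_iff.1 (hconj z z⁻¹ hz1 (inv_ne_one.2 hz1) hzp
      (by rw [orderOf_inv]; exact hzp))
    obtain ⟨n, hn, hnp⟩ := exists_two_part hp2 g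
    refine ⟨Subgroup.zpowers z, S.2.to_le (Subgroup.zpowers_le.2 hz),
      Subgroup.zpowers_ne_bot.2 hz1, g ^ n, hnp, fun r hr => ?_⟩
    obtain ⟨i, rfl⟩ := Subgroup.mem_zpowers_iff.1 hr
    rw [← conj_zpow, conj_eq_inv_of_odd hg hn, inv_zpow]
  obtain ⟨R, hR, hmax⟩ := Set.exists_max_image {R | Good R} (fun R => Nat.card R)
    (Set.toFinite _) hex
  obtain ⟨hRp, hR1, t, htp, ht⟩ := hR
  obtain ⟨P, hRP⟩ := hRp.exists_le_sylow
  rcases eq_or_ne R (P : Subgroup G) with hRe | hne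
  · -- a Sylow subgroup inverted by an automorphism is abelian
    apply hna
    obtain ⟨g, rfl⟩ := MulAction.exists_smul_eq G P S
    refine ⟨⟨fun a b => Subtype.ext ?_⟩⟩
    have hmem : ∀ a ∈ ((g • P : Sylow p G) : Subgroup G), g⁻¹ * a * g ∈ R := fun a ha => by
      rw [hRe]
      rw [Sylow.coe_subgroup_smul, Subgroup.mem_pointwise_smul_iff_inv_smul_mem] at ha
      simpa using ha
    have key : ∀ u ∈ R, ∀ v ∈ R, u * v = v * u := fun u hu v hv => by
      have h1 := ht (u * v) (R.mul_mem hu hv)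
      rw [show t * (u * v) * t⁻¹ = (t * u * t⁻¹) * (t * v * t⁻¹) by group, ht u hu, ht v hv,
        mul_inv_rev] at h1
      have h2 := congrArg (·⁻¹) h1
      simpa using h2.symm
    have h := key _ (hmem a a.2) _ (hmem b b.2)
    calc (a : G) * b = g * ((g⁻¹ * a * g) * (g⁻¹ * b * g)) * g⁻¹ := by group
      _ = (b : G) * a := by rw [h]; group
  -- enlarge
  have hlt : R < (P : Subgroup G) := lt_of_le_of_ne hRP hne
  set U := (P : Subgroup G) ⊓ Subgroup.normalizer (R : Set G) with hU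
  have hRU : R < U := by
    refine lt_of_le_of_ne (le_inf hRP Subgroup.le_normalizer) fun h => ?_
    haveI : Group.IsNilpotent (P : Subgroup G) := P.2.isNilpotent
    have hlt' : R.subgroupOf (P : Subgroup G) < ⊤ := lt_top_iff_ne_top.2 fun h' =>
      hne (le_antisymm hRP (Subgroup.subgroupOf_eq_top.1 h'))
    obtain ⟨x, hx, hxR⟩ :=
      SetLike.exists_of_lt (Group.normalizerCondition_of_isNilpotent _ hlt')
    apply hxR
    rw [Subgroup.mem_subgroupOf, h]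
    refine Subgroup.mem_inf.2 ⟨x.2, Subgroup.mem_normalizer_iff.2 fun u => ?_⟩
    constructor
    · intro hu
      have := (Subgroup.mem_normalizer_iff.1 hx ⟨u, hRP hu⟩).1 (Subgroup.mem_subgroupOf.2 hu)
      simpa [Subgroup.mem_subgroupOf] using this
    · intro hu
      have huP : u ∈ (P : Subgroup G) := by
        have := (P : Subgroup G).mul_mem ((P : Subgroup G).mul_mem
          ((P : Subgroup G).inv_mem x.2) (hRP hu)) x.2
        simpa [mul_assoc] using this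
      have := (Subgroup.mem_normalizer_iff.1 hx ⟨u, huP⟩).2
        (Subgroup.mem_subgroupOf.2 (by simpa using hu))
      simpa [Subgroup.mem_subgroupOf] using this
  have hUp : IsPGroup p U := P.2.to_le inf_le_left
  set C := Subgroup.centralizer (R : Set G) with hC
  have hmove : ∀ u ∈ Subgroup.normalizer (R : Set G), ∀ c ∈ C, u * c * u⁻¹ ∈ C := fun u hu c hc =>
    Subgroup.mem_centralizer_iff.2 fun r hr => by
      have h1 : u⁻¹ * r * u ∈ R := by
        simpa using (Subgroup.mem_normalizer_iff.1 (inv_mem hu) r).1 hr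
      calc r * (u * c * u⁻¹) = u * ((u⁻¹ * r * u) * c) * u⁻¹ := by group
        _ = u * (c * (u⁻¹ * r * u)) * u⁻¹ := by rw [Subgroup.mem_centralizer_iff.1 hc _ h1]
        _ = u * c * u⁻¹ * r := by group
  have hUC : U ≤ Subgroup.normalizer (C : Set G) := fun u hu =>
    Subgroup.mem_normalizer_iff.2 fun c => ⟨hmove u (Subgroup.mem_inf.1 hu).2 c, fun hc => by
      have := hmove u⁻¹ (inv_mem (Subgroup.mem_inf.1 hu).2) _ hc
      simpa [mul_assoc] using this⟩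
  set X := U ⊔ C with hX
  have hmemX : ∀ x ∈ X, ∃ u ∈ U, ∃ c ∈ C, u * c = x := fun x hx => by
    rw [hX, ← SetLike.mem_coe, Subgroup.coe_mul_of_left_le_normalizer_right U C hUC] at hx
    exact hx
  -- `t` normalises `X`
  have htC : ∀ c ∈ C, t * c * t⁻¹ ∈ C := fun c hc => Subgroup.mem_centralizer_iff.2 fun r hr => by
    have e : t * r⁻¹ * t⁻¹ = r := by rw [ht _ (R.inv_mem hr), inv_inv]
    have hcr := Subgroup.mem_centralizer_iff.1 hc r⁻¹ (R.inv_mem hr)
    calc r * (t * c * t⁻¹) = (t * r⁻¹ * t⁻¹) * (t * c * t⁻¹) := by rw [e]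
      _ = t * (r⁻¹ * c) * t⁻¹ := by group
      _ = (t * c * t⁻¹) * (t * r⁻¹ * t⁻¹) := by rw [hcr]; group
      _ = _ := by rw [e]
  have htU : ∀ u ∈ U, t * u * t⁻¹ * u⁻¹ ∈ C := fun u hu => by
    refine Subgroup.mem_centralizer_iff.2 fun r hr => ?_
    have hn := (Subgroup.mem_inf.1 hu).2
    have h1 : u⁻¹ * r * u ∈ R := by
      simpa using (Subgroup.mem_normalizer_iff.1 (inv_mem hn) r).1 hr
    have h2 : u⁻¹ * r⁻¹ * u ∈ R := by
      simpa using (Subgroup.mem_normalizer_iff.1 (inv_mem hn) r⁻¹).1 (R.inv_mem hr)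
    -- conjugation by `t u t⁻¹ u⁻¹` fixes `r`
    have hfix : t * u * t⁻¹ * u⁻¹ * r * (t * u * t⁻¹ * u⁻¹)⁻¹ = r := by
      have e1 : t⁻¹ * (u⁻¹ * r * u) * t = u⁻¹ * r⁻¹ * u := by
        calc t⁻¹ * (u⁻¹ * r * u) * t = t⁻¹ * (t * (u⁻¹ * r⁻¹ * u) * t⁻¹) * t := by
              rw [ht _ h2]; group
          _ = _ := by group
      calc t * u * t⁻¹ * u⁻¹ * r * (t * u * t⁻¹ * u⁻¹)⁻¹
          = t * u * (t⁻¹ * (u⁻¹ * r * u) * t) * u⁻¹ * t⁻¹ := by group
        _ = t * r⁻¹ * t⁻¹ := by rw [e1]; group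
        _ = r := by rw [ht _ (R.inv_mem hr), inv_inv]
    exact (mul_inv_eq_iff_eq_mul.1 hfix).symm
  have htX : ∀ x ∈ X, t * x * t⁻¹ ∈ X := fun x hx => by
    obtain ⟨u, hu, c, hc, rfl⟩ := hmemX x hx
    rw [show t * (u * c) * t⁻¹ = (t * u * t⁻¹ * u⁻¹) * u * (t * c * t⁻¹) by group]
    exact X.mul_mem (X.mul_mem (Subgroup.mem_sup_right (htU u hu)) (Subgroup.mem_sup_left hu))
      (Subgroup.mem_sup_right (htC c hc))
  -- a Sylow subgroup of `X` above `U`, moved back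
  obtain ⟨P', hUP'⟩ := (hUp.of_equiv (Subgroup.subgroupOfEquivOfLe (le_sup_left : U ≤ X)).symm).exists_le_sylow
  set R' := (P' : Subgroup X).map X.subtype with hR'
  have hR'p : IsPGroup p R' := P'.2.map _
  have hR'X : R' ≤ X := Subgroup.map_subtype_le _
  have hUR' : U ≤ R' := fun u hu =>
    ⟨⟨u, Subgroup.mem_sup_left hu⟩, hUP' (Subgroup.mem_subgroupOf.2 hu), rfl⟩
  let Q : Subgroup X := (R'.map (MulAut.conj t).toMonoidHom).subgroupOf X
  have hQcard : Nat.card Q = p ^ (Nat.card X).factorization p := by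
    rw [Nat.card_congr (Subgroup.subgroupOfEquivOfLe (by
      rintro _ ⟨r, hr, rfl⟩
      exact htX r (hR'X hr))).toEquiv, Subgroup.card_map_of_injective (MulAut.conj t).injective,
      hR', Subgroup.card_map_of_injective X.subtype_injective, P'.card_eq_multiplicity]
  obtain ⟨x, hx⟩ := MulAction.exists_smul_eq X (Sylow.ofCard Q hQcard) P'
  have hxconj : ∀ r ∈ R', (x : G) * (t * r * t⁻¹) * (x : G)⁻¹ ∈ R' := fun r hr => by
    have hq : (⟨t * r * t⁻¹, htX r (hR'X hr)⟩ : X) ∈ (Sylow.ofCard Q hQcard : Subgroup X) := by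
      rw [Sylow.coe_ofCard, Subgroup.mem_subgroupOf]
      exact ⟨r, hr, rfl⟩
    have h := Subgroup.smul_mem_pointwise_smul _ (MulAut.conj x) _ hq
    rw [← Sylow.coe_subgroup_smul, hx] at h
    exact ⟨_, h, by simp⟩
  obtain ⟨u, hu, c, hc, huc⟩ := hmemX x x.2
  set t₁ := c * t with ht₁
  have ht₁R : ∀ r ∈ R, t₁ * r * t₁⁻¹ = r⁻¹ := fun r hr => by
    rw [ht₁, mul_inv_rev, show c * t * r * (t⁻¹ * c⁻¹) = c * (t * r * t⁻¹) * c⁻¹ by group, ht r hr,
      ← Subgroup.mem_centralizer_iff.1 hc _ (R.inv_mem hr), mul_inv_cancel_right]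
  have ht₁n : ∀ r ∈ R', t₁ * r * t₁⁻¹ ∈ R' := fun r hr => by
    have h := R'.mul_mem (R'.mul_mem (R'.inv_mem (hUR' hu)) (hxconj r hr)) (hUR' hu)
    rw [← huc] at h
    rw [ht₁]
    convert h using 1
    group
  obtain ⟨n, hn, ht₂p⟩ := exists_two_part hp2 t₁
  set t₂ := t₁ ^ n with ht₂
  have ht₂R : ∀ r ∈ R, t₂ * r * t₂⁻¹ = r⁻¹ := fun r hr => conj_eq_inv_of_odd (ht₁R r hr) hn
  have hpow : ∀ m : ℕ, ∀ r ∈ R', t₁ ^ m * r * (t₁ ^ m)⁻¹ ∈ R' := by
    intro m
    induction m with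
    | zero => simp
    | succ m ih =>
      intro r hr
      have := ht₁n _ (ih r hr)
      rw [pow_succ', mul_inv_rev]
      convert this using 1
      group
  have ht₂n : ∀ r ∈ R', t₂ * r * t₂⁻¹ ∈ R' := hpow n
  obtain ⟨r₀, hr₀, hr₀1⟩ := (Subgroup.ne_bot_iff_exists_ne_one).1 hR1
    |> fun ⟨r, hr⟩ => (⟨(r : G), r.2, fun h => hr (Subtype.ext h)⟩ : ∃ r ∈ R, r ≠ 1)
  have hr₀' : r₀ ∈ R' := hUR' (hRU.le hr₀)
  -- `t₂²` centralises `R'`
  have hsq : ∀ r ∈ R', t₂ * (t₂ * r * t₂⁻¹) * t₂⁻¹ = r := fun r hr => by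
    have hord : ¬ p ∣ orderOf (t₂ * t₂) := fun h => ht₂p (h.trans (by
      rw [← sq]; exact orderOf_pow_dvd 2))
    have hn2 : ∀ s ∈ R', t₂ * t₂ * s * (t₂ * t₂)⁻¹ ∈ R' := fun s hs => by
      have := ht₂n _ (ht₂n s hs)
      convert this using 1
      group
    have hc0 : Commute (t₂ * t₂) r₀ := by
      refine mul_inv_eq_iff_eq_mul.1 ?_
      calc t₂ * t₂ * r₀ * (t₂ * t₂)⁻¹ = t₂ * (t₂ * r₀ * t₂⁻¹) * t₂⁻¹ := by group
        _ = r₀ := by rw [ht₂R r₀ hr₀, ht₂R _ (R.inv_mem hr₀), inv_inv]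
    have := commute_all hcent hR'p hord hn2 hr₀' hr₀1 hc0 r hr
    calc t₂ * (t₂ * r * t₂⁻¹) * t₂⁻¹ = t₂ * t₂ * r * (t₂ * t₂)⁻¹ := by group
      _ = r := by rw [this.eq, mul_inv_cancel_right]
  -- no fixed points
  let φ : R' →* R' :=
    { toFun := fun r => ⟨t₂ * r * t₂⁻¹, ht₂n r r.2⟩
      map_one' := by ext; simp
      map_mul' := fun a b => by ext; simp [mul_assoc] }
  have hfpf : MonoidHom.FixedPointFree φ := fun r hr => by
    by_contra hr1
    have hc : Commute t₂ (r : G) := mul_inv_eq_iff_eq_mul.1 (congrArg Subtype.val hr)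
    have h0 := commute_all hcent hR'p ht₂p ht₂n r.2 (fun h => hr1 (Subtype.ext h)) hc r₀ hr₀'
    have h2 : r₀⁻¹ = r₀ := by rw [← ht₂R r₀ hr₀, h0.eq, mul_inv_cancel_right]
    have h3 : orderOf r₀ ∣ 2 := orderOf_dvd_of_pow_eq_one (by
      rw [sq]
      nth_rewrite 1 [← h2]
      exact inv_mul_cancel r₀)
    obtain ⟨k, hk⟩ := IsPGroup.iff_orderOf.1 hRp ⟨r₀, hr₀⟩
    rw [Subgroup.orderOf_mk] at hk
    have : orderOf r₀ = 1 := Nat.eq_one_of_dvd_coprimes
      (Nat.Coprime.pow_left k ((Nat.coprime_primes Fact.out Nat.prime_two).2 hp2)) (hk ▸ dvd_rfl) h3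
    exact hr₀1 (orderOf_eq_one_iff.1 this)
  have hinvol : Function.Involutive φ := fun r => Subtype.ext (hsq r r.2)
  have hgood : Good R' := by
    refine ⟨hR'p, fun h => ?_, t₂, ht₂p, fun r hr => ?_⟩
    · exact hR1 (le_bot_iff.1 (h ▸ (hRU.le.trans hUR')))
    · exact congrArg Subtype.val (congrFun (hfpf.coe_eq_inv_of_involutive hinvol) ⟨r, hr⟩)
  have h1 := hmax R' hgood
  have h2 : Nat.card R < Nat.card U :=
    Set.Finite.card_lt_card (Set.toFinite _) (SetLike.coe_ssubset_coe.2 hRU)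
  have h3 := Subgroup.card_le_of_le hUR'
  omega

end Cfsg.Agent.OneSubsection
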