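import Cfsg.Agent.Lib.CharTheory.OneSubsection.Invert
import Cfsg.Agent.Lib.Blocks.SectionSum
import Cfsg.Agent.Lib.Blocks.NilpotentAbelian
import Cfsg.Agent.Lib.Blocks.FongReynolds
import Cfsg.Agent.Lib.Blocks.InvariantCore
import Cfsg.Agent.Lib.Blocks.InducedChars
import Cfsg.Agent.Lib.PLocal.PSolvable
import Cfsg.Agent.BlockCharsA.PairNilpotent
import Cfsg.Agent.S4646
import Cfsg.Agent.S4652

/-!
# Blocks with one irreducible character more than Brauer characters

A nontrivial element of the defect group carries a subsection, so `k(B) - l(B) = 1` leaves a single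
class of nontrivial `p`-elements and one Brauer character there.
-/

set_option linter.style.haveILetI false

namespace Cfsg.Agent.OneSubsection

open Cfsg.Agent.Blocks Cfsg.Agent.Blocks.SectionSum Cfsg.Agent.BlockCharsA Cfsg.Agent.Characters

universe u

variable {G : Type u} [Group G] [Finite G] {p : ℕ} [Fact p.Prime] {M : Ideal Cfsg.AlgInt}

/-- An element of a defect group lies under an induced block. -/
theorem exists_subsection (hM : Cfsg.IsPModular p M) {B : Set (Cfsg.IrrCharacter G)}
    (hB : Cfsg.IsPBlock M B) {D : Subgroup G} (hD : Cfsg.IsDefectGroup p M B D) {x : G}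
    (hx : ∃ k : ℕ, orderOf x = p ^ k) {y : G} (hxy : y⁻¹ * x * y ∈ D) :
    ∃ b, Cfsg.IsInducedBlock M (Subgroup.centralizer ({x} : Set G)) b B := by
  obtain ⟨k, hk⟩ := hx
  refine (exists_induced_iff hM (P := Subgroup.zpowers x)
    (IsPGroup.of_card (n := k) (by rw [Nat.card_zpowers, hk]))
    (Subgroup.zpowers_le.2 (Subgroup.mem_centralizer_singleton_iff.2 rfl))
    (fun g hg => Subgroup.mem_centralizer_singleton_iff.2
      (Subgroup.mem_centralizer_iff.1 hg x (Subgroup.mem_zpowers x)).symm)
    (fun g hg => ?_) hB hD).2 ⟨y, ?_⟩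
  · have hc : ∀ i : ℤ, g * x ^ i * g⁻¹ = x ^ i := fun i => by
      rw [mul_inv_eq_iff_eq_mul]
      exact (Commute.zpow_right (Subgroup.mem_centralizer_singleton_iff.1 hg) i).eq
    refine Subgroup.mem_normalizer_iff.2 fun h => ⟨fun hh => ?_, fun hh => ?_⟩
    · obtain ⟨i, rfl⟩ := Subgroup.mem_zpowers_iff.1 hh
      rw [hc]; exact hh
    · obtain ⟨i, hi⟩ := Subgroup.mem_zpowers_iff.1 hh
      have : h = x ^ i := by
        have e : g * h * g⁻¹ = g * x ^ i * g⁻¹ := by rw [hc, hi]
        simpa using e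
      rw [this]; exact Subgroup.zpow_mem_zpowers x i
  · rw [Subgroup.zpowers_le]
    exact ⟨y⁻¹ * x * y, hxy, by simp [mul_assoc]⟩

theorem blockRank_mono {A A' : Set (Cfsg.IrrCharacter G)} (h : A ⊆ A') :
    Cfsg.blockRank p A ≤ Cfsg.blockRank p A' := by
  haveI := Fintype.ofFinite G
  exact Submodule.finrank_mono (Submodule.span_mono (Set.image_mono h))

theorem induced_subset_indU (hM : Cfsg.IsPModular p M) {x : G} {B : Set (Cfsg.IrrCharacter G)}
    {b : Set (Cfsg.IrrCharacter (Subgroup.centralizer ({x} : Set G)))}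
    (h : Cfsg.IsInducedBlock M (Subgroup.centralizer ({x} : Set G)) b B) : b ⊆ indU M x B := by
  rw [indU_block hM h.2.1]
  exact fun η hη => ⟨b, hη, h⟩

/-- `k(B) - l(B) = 1` and a subsection at every nontrivial `p`-element: one class, rank one. -/
theorem one_class (hM : Cfsg.IsPModular p M) {B : Set (Cfsg.IrrCharacter G)}
    (hB : Cfsg.IsPBlock M B) (hk : Nat.card B = Cfsg.blockRank p B + 1)
    (hsub : ∀ x : G, x ≠ 1 → (∃ k : ℕ, orderOf x = p ^ k) →
      ∃ b, Cfsg.IsInducedBlock M (Subgroup.centralizer ({x} : Set G)) b B) :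
    ∀ x y : G, x ≠ 1 → y ≠ 1 → (∃ k : ℕ, orderOf x = p ^ k) → (∃ k : ℕ, orderOf y = p ^ k) →
      IsConj x y ∧ Cfsg.blockRank p (indU M x B) = 1 := by
  classical
  haveI := Fintype.ofFinite G
  intro x y hx1 hy1 hx hy
  have hcl : IsClosed' M B := fun χ hχ θ hθ => by rwa [block_eq_blockOf hM hB hχ]
  have h := card_sub_rank_eq hM hcl
  rw [hk, Nat.cast_add, Nat.cast_one, add_sub_cancel_left, mul_one] at h
  set F := Finset.univ.filter (fun x : G => (∃ k : ℕ, orderOf x = p ^ k) ∧ x ≠ 1) with hF
  set term : G → ℕ := fun z =>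
    Nat.card (Subgroup.centralizer ({z} : Set G)) * Cfsg.blockRank p (indU M z B) with hterm
  have h' : Nat.card G = ∑ z ∈ F, term z := by
    apply Nat.cast_injective (R := ℤ)
    rw [h, Nat.cast_sum]
    exact Finset.sum_congr rfl fun z _ => by simp [term]
  have hcls : ∀ z : G, (∃ k : ℕ, orderOf z = p ^ k) → z ≠ 1 →
      ∀ w, IsConj z w → w ∈ F ∧ Nat.card (Subgroup.centralizer ({w} : Set G)) =
        Nat.card (Subgroup.centralizer ({z} : Set G)) := by
    intro z hz hz1 w hw
    obtain ⟨c, rfl⟩ := isConj_iff.1 hw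
    have ho : orderOf (c * z * c⁻¹) = orderOf z :=
      orderOf_injective (MulAut.conj c).toMonoidHom (MulAut.conj c).injective z
    refine ⟨Finset.mem_filter.2 ⟨Finset.mem_univ _, by rw [ho]; exact hz,
      fun e => hz1 (by simpa using e)⟩, Nat.card_congr
      (Equiv.subtypeEquiv (MulAut.conj c).toEquiv.symm fun g => ?_)⟩
    simp only [Subgroup.mem_centralizer_singleton_iff, MulEquiv.toEquiv_eq_coe]
    change _ ↔ (MulAut.conj c).symm g * z = z * (MulAut.conj c).symm g
    rw [MulAut.conj_symm_apply]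
    constructor
    · intro e
      calc c⁻¹ * g * c * z = c⁻¹ * (g * (c * z * c⁻¹)) * c := by group
        _ = z * (c⁻¹ * g * c) := by rw [e]; group
    · intro e
      calc g * (c * z * c⁻¹) = c * ((c⁻¹ * g * c) * z) * c⁻¹ := by group
        _ = c * z * c⁻¹ * g := by rw [e]; group
  have hrank : ∀ w ∈ F, 0 < Cfsg.blockRank p (indU M w B) := fun w hw => by
    obtain ⟨hw', hw1⟩ := (Finset.mem_filter.1 hw).2
    obtain ⟨b, hb⟩ := hsub w hw1 hw'
    exact lt_of_lt_of_le (NilpotentAbelian.blockRank_pos hM hb.1)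
      (blockRank_mono (induced_subset_indU hM hb))
  -- a class alone contributes at least the order of the group
  have hclass : ∀ z : G, (∃ k : ℕ, orderOf z = p ^ k) → z ≠ 1 →
      Nat.card G + Nat.card (Subgroup.centralizer ({z} : Set G)) *
        (Cfsg.blockRank p (indU M z B) - 1) ≤
      ∑ w ∈ F.filter (fun w => IsConj z w), term w := by
    intro z hz hz1
    set S := F.filter (fun w => IsConj z w) with hS
    set c := Nat.card (Subgroup.centralizer ({z} : Set G)) with hc
    have hzS : z ∈ S := Finset.mem_filter.2 ⟨(hcls z hz hz1 z (IsConj.refl z)).1, IsConj.refl z⟩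
    have hcard : S.card * c = Nat.card G := by
      rw [← Subgroup.index_mul_card (Subgroup.centralizer ({z} : Set G)),
        ← card_conjugates z, ← Nat.card_eq_finsetCard]
      congr 1
      exact Nat.card_congr (Equiv.subtypeEquivRight fun w => by
        rw [hS, Finset.mem_filter]
        exact ⟨fun h => h.2, fun h => ⟨(hcls z hz hz1 w h).1, h⟩⟩)
    have hge : ∀ w ∈ S, c + (if w = z then c * (Cfsg.blockRank p (indU M z B) - 1) else 0) ≤
        term w := fun w hw => by
      obtain ⟨hwF, hwz⟩ := Finset.mem_filter.1 hw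
      have hr := hrank w hwF
      simp only [term]
      rw [(hcls z hz hz1 w hwz).2, ← hc]
      split_ifs with hwe
      · subst hwe
        obtain ⟨r, hr'⟩ := Nat.exists_eq_succ_of_ne_zero hr.ne'
        rw [hr', Nat.succ_sub_one, Nat.mul_succ, add_comm]
      · rw [add_zero]; exact Nat.le_mul_of_pos_right c hr
    refine le_trans (le_of_eq ?_) (Finset.sum_le_sum hge)
    rw [Finset.sum_add_distrib, Finset.sum_const, smul_eq_mul, hcard, Finset.sum_ite_eq' S z,
      if_pos hzS]
  have hcx := hclass x hx hx1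
  have hsubF : ∀ z : G, ∑ w ∈ F.filter (fun w => IsConj z w), term w ≤ ∑ w ∈ F, term w :=
    fun z => Finset.sum_le_sum_of_subset (Finset.filter_subset _ _)
  constructor
  · by_contra hne
    have hcy := hclass y hy hy1
    have hdis : Disjoint (F.filter (fun w => IsConj x w)) (F.filter (fun w => IsConj y w)) :=
      Finset.disjoint_filter.2 fun w _ h1 h2 => hne (h1.trans h2.symm)
    have h2 : ∑ w ∈ F.filter (fun w => IsConj x w), term w +
        ∑ w ∈ F.filter (fun w => IsConj y w), term w ≤ ∑ w ∈ F, term w := by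
      rw [← Finset.sum_union hdis]
      exact Finset.sum_le_sum_of_subset (Finset.union_subset (Finset.filter_subset _ _)
        (Finset.filter_subset _ _))
    have := Nat.card_pos (α := G)
    omega
  · have hxF := (hcls x hx hx1 x (IsConj.refl x)).1
    have h1 := hrank x hxF
    have h2 := hsubF x
    have h3 : Nat.card (Subgroup.centralizer ({x} : Set G)) *
        (Cfsg.blockRank p (indU M x B) - 1) = 0 := by omega
    rcases Nat.mul_eq_zero.1 h3 with h4 | h4
    · exact absurd h4 Nat.card_pos.ne'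
    · omega

/-- Every `p`-element is conjugate into a Sylow subgroup. -/
theorem exists_conj_mem (S : Sylow p G) {x : G} (hx : ∃ k : ℕ, orderOf x = p ^ k) :
    ∃ y : G, y⁻¹ * x * y ∈ (S : Subgroup G) := by
  obtain ⟨k, hk⟩ := hx
  obtain ⟨P, hP⟩ :=
    (IsPGroup.of_card (G := Subgroup.zpowers x) (n := k) (by rw [Nat.card_zpowers, hk])).exists_le_sylow
  obtain ⟨y, hy⟩ := MulAction.exists_smul_eq G S P
  refine ⟨y, ?_⟩
  have h := hP (Subgroup.mem_zpowers x)
  rw [← hy, Sylow.coe_subgroup_smul, Subgroup.mem_pointwise_smul_iff_inv_smul_mem] at h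
  simpa [mul_assoc] using h

/-- The principal block case. -/
theorem principal_case (hM : Cfsg.IsPModular p M) {D : Subgroup G}
    (hD : Cfsg.IsDefectGroup p M (Cfsg.principalBlock M G) D)
    (hk : Nat.card (Cfsg.principalBlock M G) =
      Cfsg.blockRank p (Cfsg.principalBlock M G) + 1) :
    Cfsg.IsElementaryAbelian p D := by
  haveI := Fintype.ofFinite G
  obtain ⟨S, rfl⟩ := (Cfsg.Agent.S4652.result p M hM D).1 hD
  have hB := isPBlock_principal M G
  have hsub : ∀ x : G, x ≠ 1 → (∃ k : ℕ, orderOf x = p ^ k) →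
      ∃ b, Cfsg.IsInducedBlock M (Subgroup.centralizer ({x} : Set G)) b
        (Cfsg.principalBlock M G) := fun x _ hx => by
    obtain ⟨y, hy⟩ := exists_conj_mem S hx
    exact exists_subsection hM hB hD hx hy
  have h := one_class hM hB hk hsub
  refine isElementaryAbelian (fun x hx1 hx => ?_) (fun x y a b c d => (h x y a b c d).1) S
  obtain ⟨b, hb⟩ := hsub x hx1 hx
  have hb0 := (third_main hM ⟨_, hb⟩).1 hb
  subst hb0
  rw [← PairNilpotent.principal_nilpotent_iff hM, Cfsg.Agent.S4646.result p M hM]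
  have hle := blockRank_mono (p := p) (induced_subset_indU hM hb)
  rw [(h x x hx1 hx1 hx hx).2] at hle
  exact le_antisymm hle (NilpotentAbelian.blockRank_pos hM hb.1)

end Cfsg.Agent.OneSubsection
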