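import Cfsg.Agent.Lib.CharTheory.OneSubsection.Main

/-!
# `k(B) - l(B) = 1` for `p`-solvable groups

The Fong–Reynolds correspondence preserves `k` and `l`; over an invariant character of
`O_{p'}(G)` the single class of `p`-elements meets the centre of `O_p` of the quotient.
-/

set_option linter.style.haveILetI false

namespace Cfsg.Agent.OneSubsection

open Cfsg.Agent.Blocks Cfsg.Agent.BlockCharsA Cfsg.Agent.Characters
open Cfsg.Agent.CharTheory Cfsg.Agent.BlockCharsA.NormalSupport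

universe u

variable {G : Type u} [Group G] [Finite G] {p : ℕ} [Fact p.Prime] {M : Ideal Cfsg.AlgInt}

theorem not_dvd_orderOf_mul_left {N : Subgroup G} [N.Normal] (hN : ¬ p ∣ Nat.card N) {n x : G}
    (hn : n ∈ N) (hx : ¬ p ∣ orderOf x) : ¬ p ∣ orderOf (n * x) := by
  intro h
  have h1 : (n * x) ^ orderOf x ∈ N := by
    rw [← QuotientGroup.eq_one_iff (N := N), QuotientGroup.mk_pow, QuotientGroup.mk_mul,
      (QuotientGroup.eq_one_iff n).2 hn, one_mul, ← QuotientGroup.mk_pow, pow_orderOf_eq_one,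
      QuotientGroup.mk_one]
  have h2 : orderOf (n * x) ∣ orderOf x * Nat.card N := orderOf_dvd_of_pow_eq_one (by
    rw [pow_mul]
    exact (Subgroup.coe_pow N ⟨_, h1⟩ _).symm.trans (congrArg Subtype.val (pow_card_eq_one' (x := (⟨_, h1⟩ : N)))))
  rcases (Fact.out : p.Prime).dvd_mul.1 (h.trans h2) with h3 | h3
  · exact hx h3
  · exact hN h3

/-- A block over an invariant character of `O_{p'}`. -/
theorem invariant_case (hM : Cfsg.IsPModular p M) (hps : Cfsg.IsPSolvable p G)
    {K : Subgroup G} [K.Normal] [Fintype K] (hK : K = Cfsg.pPrimeCore p G)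
    (θ : Cfsg.IrrCharacter K) (hinv : ∀ g : G, conjIrr g θ = θ)
    {B : Set (Cfsg.IrrCharacter G)} (hB : Cfsg.IsPBlock M B) {χ : Cfsg.IrrCharacter G} (hχ : χ ∈ B)
    (hχθ : Cfsg.classInner (fun n : K => (χ : G → ℂ) n) (θ : K → ℂ) ≠ 0)
    {D : Subgroup G} (hD : Cfsg.IsDefectGroup p M B D)
    (hk : Nat.card B = Cfsg.blockRank p B + 1) : Cfsg.IsElementaryAbelian p D := by
  haveI := Fintype.ofFinite G
  obtain ⟨B', hB', hmem, hsyl, hdef⟩ := InvariantCore.invariant_block hM hps hK θ hinv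
  obtain rfl : B = B' := block_eq_of_mem hM hB hB' hχ ((hmem χ).2 hχθ)
  obtain ⟨S, rfl⟩ := hdef D hD
  have h := one_class hM hB hk fun x _ hx => by
    obtain ⟨y, hy⟩ := exists_conj_mem S hx
    exact exists_subsection hM hB (hsyl S) hx hy
  rcases subsingleton_or_nontrivial (S : Subgroup G) with hs | hs
  · exact ⟨⟨⟨fun a b => Subsingleton.elim _ _⟩⟩, fun a ha => by
      have := congrArg Subtype.val (Subsingleton.elim (⟨a, ha⟩ : (S : Subgroup G)) 1)
      simp only [OneMemClass.coe_one] at this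
      rw [this, one_pow]⟩
  have hp := (Fact.out : p.Prime)
  have hel : ∀ s ∈ (S : Subgroup G), ∃ k : ℕ, orderOf s = p ^ k := fun s hs => by
    obtain ⟨k, hk⟩ := IsPGroup.iff_orderOf.1 S.2 ⟨s, hs⟩
    exact ⟨k, by rwa [Subgroup.orderOf_mk] at hk⟩
  -- exponent `p`
  have hexp : ∀ a ∈ (S : Subgroup G), a ^ p = 1 := by
    intro a ha
    by_cases ha1 : a = 1
    · simp [ha1]
    have hpG : p ∣ Nat.card G := by
      obtain ⟨k, hk⟩ := hel a ha
      refine dvd_trans ?_ (hk ▸ orderOf_dvd_natCard a)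
      exact dvd_pow_self p fun h => ha1 (orderOf_eq_one_iff.1 (by rw [hk, h, pow_zero]))
    obtain ⟨y, hy⟩ := exists_prime_orderOf_dvd_card' p hpG
    have hy1 : y ≠ 1 := fun h => hp.ne_one (by rw [← hy, h, orderOf_one])
    obtain ⟨c, hc⟩ := isConj_iff.1 (h y a hy1 ha1 ⟨1, by rw [hy, pow_one]⟩ (hel a ha)).1
    rw [← hc, conj_pow, ← hy, pow_orderOf_eq_one, mul_one, mul_inv_cancel]
  refine ⟨?_, hexp⟩
  -- everything lies over the centre of `O_p(G ⧸ K)`
  have hKp : ¬ p ∣ Nat.card K :=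
    hK ▸ PLocal.Cores.not_dvd_card_pPrimeCore hp.ne_one
  let q := QuotientGroup.mk' K
  have hinj : ∀ s ∈ (S : Subgroup G), q s = 1 → s = 1 := fun s hs hq => by
    obtain ⟨k, hk⟩ := hel s hs
    have h1 : orderOf s ∣ Nat.card K := by
      rw [← Subgroup.orderOf_mk s ((QuotientGroup.eq_one_iff s).1 hq)]
      exact orderOf_dvd_natCard _
    exact orderOf_eq_one_iff.1 (Nat.eq_one_of_dvd_coprimes
      (Nat.Coprime.pow_left k (hp.coprime_iff_not_dvd.2 hKp)) (hk ▸ dvd_rfl) h1)
  set V := Cfsg.pCore p (G ⧸ K) with hV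
  haveI hVn : V.Normal := Cores.pCore_normal p
  have hCV : Subgroup.centralizer (V : Set (G ⧸ K)) ≤ V :=
    PLocal.PSolvable.centralizer_pCore_le (by subst hK; exact Cores.pPrimeCore_quotient_self p)
      (PLocal.PSolvable.subgroup (PLocal.PSolvable.quotient hps K) _)
  obtain ⟨s₀, hs₀⟩ := exists_ne (1 : (S : Subgroup G))
  have hVne : V ≠ ⊥ := fun e => by
    have : q (s₀ : G) ∈ V := hCV (Subgroup.mem_centralizer_iff.2 fun v hv => by
      rw [e] at hv
      rw [Subgroup.mem_bot.1 hv, one_mul, mul_one])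
    rw [e, Subgroup.mem_bot] at this
    exact hs₀ (Subtype.ext (hinj _ s₀.2 this))
  let W : Subgroup (G ⧸ K) := (Subgroup.center V).map V.subtype
  haveI hWn : W.Normal := ConjAct.normal_of_characteristic_of_normal
  have hVp : IsPGroup p V := PLocal.Cores.isPGroup_pCore
  haveI : Nontrivial V := V.nontrivial_iff_ne_bot.2 hVne
  haveI := hVp.center_nontrivial
  obtain ⟨⟨w, hw⟩, hw1⟩ := exists_ne (1 : Subgroup.center V)
  -- lift to a `p`-element of `G`
  obtain ⟨s, hsS, hsW, hs1⟩ : ∃ s ∈ (S : Subgroup G), q s ∈ W ∧ s ≠ 1 := by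
    have hsurj : Function.Surjective q := QuotientGroup.mk'_surjective K
    set SQ := Sylow.mapSurjective hsurj S
    have hWp : IsPGroup p W := hVp.to_le (Subgroup.map_subtype_le _)
    obtain ⟨R, hR⟩ := hWp.exists_le_sylow
    obtain ⟨g, rfl⟩ := MulAction.exists_smul_eq (G ⧸ K) SQ R
    have h1 : (w : G ⧸ K) ∈ W := ⟨w, hw, rfl⟩
    have h2 := hR h1
    rw [Sylow.coe_subgroup_smul, Subgroup.mem_pointwise_smul_iff_inv_smul_mem] at h2
    rw [Sylow.coe_mapSurjective] at h2
    obtain ⟨s, hs, hqs⟩ := h2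
    refine ⟨s, hs, ?_, fun e => ?_⟩
    · rw [hqs]
      simpa using hWn.conj_mem _ h1 g⁻¹
    · subst e
      rw [map_one] at hqs
      apply hw1
      have : (w : G ⧸ K) = 1 := by
        have h3 : g⁻¹ * (w : G ⧸ K) * g = 1 := by simpa using hqs.symm
        calc (w : G ⧸ K) = g * (g⁻¹ * (w : G ⧸ K) * g) * g⁻¹ := by group
          _ = 1 := by rw [h3, mul_one, mul_inv_cancel]
      exact Subtype.ext (Subtype.ext this)
  have hall : ∀ a ∈ (S : Subgroup G), q a ∈ W := fun a ha => by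
    by_cases ha1 : a = 1
    · rw [ha1, map_one]; exact W.one_mem
    obtain ⟨c, hc⟩ := isConj_iff.1 (h s a hs1 ha1 (hel s hsS) (hel a ha)).1
    rw [← hc, map_mul, map_mul, map_inv]
    exact hWn.conj_mem _ hsW _
  have hWc : ∀ a ∈ W, ∀ b ∈ W, a * b = b * a := by
    rintro _ ⟨a, ha, rfl⟩ _ ⟨b, hb, rfl⟩
    exact congrArg Subtype.val ((Subgroup.mem_center_iff.1 hb) a)
  refine ⟨⟨fun a b => Subtype.ext ?_⟩⟩
  have hab : q ((a : G) * b * ((b : G) * a)⁻¹) = 1 := by
    simp only [map_mul, map_inv, hWc _ (hall a a.2) _ (hall b b.2)]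
    group
  exact mul_inv_eq_one.1 (hinj _ ((a * b * (b * a)⁻¹ : (S : Subgroup G))).2 hab)

theorem pRegularPart_indFun [Fintype G] (T : Subgroup G) (f : T → ℂ) :
    Cfsg.pRegularPart p (Cfsg.indFun T f) = Cfsg.indFun T (Cfsg.pRegularPart p f) := by
  classical
  funext g
  simp only [Cfsg.pRegularPart, Cfsg.indFun]
  have hreg : ∀ x : G, Cfsg.IsPRegular p (x⁻¹ * g * x) ↔ Cfsg.IsPRegular p g := fun x => by
    have := orderOf_injective (MulAut.conj x⁻¹).toMonoidHom (MulAut.conj x⁻¹).injective g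
    simp only [MulEquiv.coe_toMonoidHom, MulAut.conj_apply, inv_inv] at this
    simp only [Cfsg.IsPRegular, this]
  have hterm : ∀ x : G, Cfsg.extendByZero T (Cfsg.pRegularPart p f) (x⁻¹ * g * x) =
      if Cfsg.IsPRegular p g then Cfsg.extendByZero T f (x⁻¹ * g * x) else 0 := fun x => by
    by_cases hx : x⁻¹ * g * x ∈ T
    · rw [show x⁻¹ * g * x = ((⟨_, hx⟩ : T) : G) from rfl, IndBasic.extendByZero_coe,
        IndBasic.extendByZero_coe, Cfsg.pRegularPart]
      have : Cfsg.IsPRegular p (⟨_, hx⟩ : T) ↔ Cfsg.IsPRegular p g := by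
        rw [← hreg x, Cfsg.IsPRegular, Cfsg.IsPRegular, Subgroup.orderOf_mk]
      exact if_congr this rfl rfl
    · rw [Cfsg.extendByZero, Cfsg.extendByZero, Function.extend_apply' _ _ _ (by simpa using hx),
        Function.extend_apply' _ _ _ (by simpa using hx)]
      simp
  rw [Finset.sum_congr rfl (fun x _ => hterm x)]
  split_ifs <;> simp

/-- The Fong–Reynolds reduction. -/
theorem stabiliser_case (hM : Cfsg.IsPModular p M) {K : Subgroup G} [K.Normal] [Fintype K]
    (hKp : ¬ p ∣ Nat.card K) (θ : Cfsg.IrrCharacter K) {T : Subgroup G}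
    (hT : ∀ g, g ∈ T ↔ conjIrr g θ = θ) (hKT : K ≤ T)
    {B : Set (Cfsg.IrrCharacter G)} (hB : Cfsg.IsPBlock M B) {χ : Cfsg.IrrCharacter G} (hχ : χ ∈ B)
    (hχθ : Cfsg.classInner (fun n : K => (χ : G → ℂ) n) (θ : K → ℂ) ≠ 0)
    {D : Subgroup G} (hD : Cfsg.IsDefectGroup p M B D)
    (hk : Nat.card B = Cfsg.blockRank p B + 1)
    (ih : ∀ (B' : Set (Cfsg.IrrCharacter T)) (D' : Subgroup T), Cfsg.IsPBlock M B' →
      Cfsg.IsDefectGroup p M B' D' → Nat.card B' = Cfsg.blockRank p B' + 1 →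
      Cfsg.IsElementaryAbelian p D') :
    Cfsg.IsElementaryAbelian p D := by
  classical
  haveI := Fintype.ofFinite G
  haveI := Fintype.ofFinite T
  set b : Set (Cfsg.IrrCharacter K) := {θ} with hbdef
  have hb : Cfsg.IsPBlock M b := ⟨θ, Set.ext fun θ' =>
    ⟨fun h => (Set.mem_singleton_iff.1 h).symm ▸ mem_blockOf_self hM θ, fun h =>
      Set.mem_singleton_iff.2 (sameBlock_eq_of_coprime hM hKp
        (sameBlock_of_mem hM (isPBlock_blockOf M θ) (mem_blockOf_self hM θ) h)).symm⟩⟩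
  have hs : ∀ g, g ∈ T ↔ ∀ θ' ∈ b, conjIrr g θ' ∈ b := fun g => by
    rw [hT]; simp [b]
  obtain ⟨ψ, hψ, hψe⟩ := FongReynolds.exists_indFun_eq hM hb hs hKT χ rfl hχθ
  set B' := Cfsg.blockOf M (ψ : T → ℂ) with hB'def
  have hB' : Cfsg.IsPBlock M B' := isPBlock_blockOf M ψ
  have hind : Cfsg.IsInducedBlock M T B' B := by
    have := FongReynolds.isInduced_blockOf hM hb hs hKT hB' (mem_blockOf_self hM ψ) hψ
    rwa [← hψe, ← block_eq_blockOf hM hB hχ] at this
  have hcov : ∀ φ ∈ B', FongReynolds.CoversOnly hKT b (φ : T → ℂ) := fun φ hφ =>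
    FongReynolds.coversOnly_of_sameBlock hM hb hs hKT
      (sameBlock_of_mem hM hB' (mem_blockOf_self hM ψ) hφ) hψ
  have hiff := FongReynolds.mem_iff_indFun hM hb hs hKT hind hcov
  -- the bijection
  have hcard : Nat.card B' = Nat.card B := by
    refine Nat.card_eq_of_bijective (fun φ : B' =>
      (⟨⟨_, FongReynolds.isIrr_indFun hM hb hs hKT φ.1 (hcov _ φ.2)⟩,
        (hiff _).2 ⟨φ.1, φ.2, rfl⟩⟩ : B)) ⟨fun φ φ' e => ?_, fun ξ => ?_⟩
    · refine Subtype.ext (FongReynolds.indFun_eq_imp hM hb hs hKT φ.1 φ'.1 (hcov _ φ.2)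
        (hcov _ φ'.2) ?_)
      exact congrArg (fun z : B => ((z : Cfsg.IrrCharacter G) : G → ℂ)) e
    · obtain ⟨φ, hφ, e⟩ := (hiff ξ).1 ξ.2
      exact ⟨⟨φ, hφ⟩, Subtype.ext (Subtype.ext e.symm)⟩
  -- the ranks
  let L : (T → ℂ) →ₗ[ℂ] (G → ℂ) :=
    { toFun := fun f => Cfsg.indFun T f
      map_add' := fun f f' => by
        funext g
        simp only [Cfsg.indFun, Pi.add_apply]
        rw [← mul_add, ← Finset.sum_add_distrib]
        congr 1
        refine Finset.sum_congr rfl fun x _ => ?_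
        simp only [Cfsg.extendByZero]
        by_cases hx : ∃ t : T, (t : G) = x⁻¹ * g * x
        · obtain ⟨t, ht⟩ := hx
          rw [← ht]
          simp [Subtype.val_injective.extend_apply]
        · simp [Function.extend_apply' _ _ _ hx]
      map_smul' := fun c f => by
        funext g
        simp only [Cfsg.indFun, RingHom.id_apply, Pi.smul_apply, smul_eq_mul, Finset.mul_sum]
        refine Finset.sum_congr rfl fun x _ => ?_
        simp only [Cfsg.extendByZero]
        by_cases hx : ∃ t : T, (t : G) = x⁻¹ * g * x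
        · obtain ⟨t, ht⟩ := hx
          rw [← ht]
          simp [Subtype.val_injective.extend_apply]
          ring
        · simp [Function.extend_apply' _ _ _ hx] }
  let R : (G → ℂ) →ₗ[ℂ] (T → ℂ) :=
    { toFun := fun F x => ∑ n : K, Cfsg.blockCoeff b n * F ((n : G) * x)
      map_add' := fun F F' => by funext x; simp [mul_add, Finset.sum_add_distrib]
      map_smul' := fun c F => by funext x; simp [Finset.mul_sum, mul_left_comm] }
  have hL : ∀ φ ∈ B', L (Cfsg.pRegularPart p (φ : T → ℂ)) =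
      Cfsg.pRegularPart p (Cfsg.indFun T (φ : T → ℂ)) :=
    fun φ _ => (pRegularPart_indFun T _).symm
  have hR : ∀ φ ∈ B', R (Cfsg.pRegularPart p (Cfsg.indFun T (φ : T → ℂ))) =
      Cfsg.pRegularPart p (φ : T → ℂ) := fun φ hφ => by
    funext x
    have hreg : ∀ n : K, Cfsg.IsPRegular p ((n : G) * x) ↔ Cfsg.IsPRegular p x := fun n => by
      simp only [Cfsg.IsPRegular, Subgroup.orderOf_coe]
      constructor
      · intro h hx
        have h1 := not_dvd_orderOf_mul_left hKp (K.inv_mem n.2) h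
        rw [inv_mul_cancel_left, Subgroup.orderOf_coe] at h1
        exact h1 hx
      · intro h
        exact not_dvd_orderOf_mul_left hKp n.2 (by rwa [Subgroup.orderOf_coe])
    have h0 := FongReynolds.sum_blockCoeff_indFun hM hb hs hKT (irr_isClassFunction φ)
      (hcov φ hφ) x
    simp only [R, LinearMap.coe_mk, AddHom.coe_mk, Cfsg.pRegularPart, hreg]
    split_ifs
    · exact h0
    · simp
  have hrank : Cfsg.blockRank p B = Cfsg.blockRank p B' := by
    set f := fun χ : Cfsg.IrrCharacter G => Cfsg.pRegularPart p (χ : G → ℂ)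
    set f' := fun φ : Cfsg.IrrCharacter T => Cfsg.pRegularPart p (φ : T → ℂ)
    have h1 : Submodule.span ℂ (f '' B) = (Submodule.span ℂ (f' '' B')).map L := by
      rw [Submodule.map_span]
      congr 1
      ext v
      constructor
      · rintro ⟨ξ, hξ, rfl⟩
        obtain ⟨φ, hφ, e⟩ := (hiff ξ).1 hξ
        exact ⟨f' φ, ⟨φ, hφ, rfl⟩, by simp only [f, f', e]; exact hL φ hφ⟩
      · rintro ⟨_, ⟨φ, hφ, rfl⟩, rfl⟩
        obtain ⟨ξ, hξ, e⟩ := FongReynolds.mem_induced hM hb hs hKT hind hφ (hcov φ hφ)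
        exact ⟨ξ, hξ, by simp only [f, f', e]; exact (hL φ hφ).symm⟩
    have h2 : Submodule.span ℂ (f' '' B') = (Submodule.span ℂ (f '' B)).map R := by
      rw [Submodule.map_span]
      congr 1
      ext v
      constructor
      · rintro ⟨φ, hφ, rfl⟩
        obtain ⟨ξ, hξ, e⟩ := FongReynolds.mem_induced hM hb hs hKT hind hφ (hcov φ hφ)
        exact ⟨f ξ, ⟨ξ, hξ, rfl⟩, by simp only [f, f', e]; exact hR φ hφ⟩
      · rintro ⟨_, ⟨ξ, hξ, rfl⟩, rfl⟩
        obtain ⟨φ, hφ, e⟩ := (hiff ξ).1 hξ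
        exact ⟨φ, hφ, by simp only [f, f', e]; exact (hR φ hφ).symm⟩
    show Module.finrank ℂ (Submodule.span ℂ (f '' B)) =
      Module.finrank ℂ (Submodule.span ℂ (f' '' B'))
    refine le_antisymm ?_ ?_
    · rw [h1]; exact Submodule.finrank_map_le L _
    · rw [h2]; exact Submodule.finrank_map_le R _
  obtain ⟨D', hD'⟩ := exists_defectGroup hM hB'
  obtain ⟨hcm, hexp⟩ := ih B' D' hB' hD' (by rw [hcard, ← hrank, hk])
  obtain ⟨x, rfl⟩ := exists_defectGroup_conj_eq hM hB
    (FongReynolds.isDefectGroup_map hM hb hs hKT hind hcov hD') hD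
  constructor
  · refine ⟨⟨?_⟩⟩
    rintro ⟨_, _, ⟨a, ha, rfl⟩, rfl⟩ ⟨_, _, ⟨c, hc, rfl⟩, rfl⟩
    have e := congrArg (fun t : D' => (t : T)) (hcm.is_comm.comm ⟨a, ha⟩ ⟨c, hc⟩)
    simp only [Subgroup.coe_mul] at e
    refine Subtype.ext ?_
    simp only [Subgroup.coe_mul, ← map_mul, e]
  · rintro _ ⟨_, ⟨a, ha, rfl⟩, rfl⟩
    rw [← map_pow, ← map_pow, hexp a ha, map_one, map_one]

/-- The `p`-solvable case, by induction on the order. -/
theorem pSolvable_case (hM : Cfsg.IsPModular p M) (hps : Cfsg.IsPSolvable p G)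
    {B : Set (Cfsg.IrrCharacter G)} (hB : Cfsg.IsPBlock M B) {D : Subgroup G}
    (hD : Cfsg.IsDefectGroup p M B D) (hk : Nat.card B = Cfsg.blockRank p B + 1) :
    Cfsg.IsElementaryAbelian p D := by
  suffices h : ∀ (n : ℕ) (H : Type u) [Group H] [Finite H], Nat.card H ≤ n →
      Cfsg.IsPSolvable p H → ∀ (B : Set (Cfsg.IrrCharacter H)) (D : Subgroup H),
      Cfsg.IsPBlock M B → Cfsg.IsDefectGroup p M B D →
      Nat.card B = Cfsg.blockRank p B + 1 → Cfsg.IsElementaryAbelian p D from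
    h _ G le_rfl hps B D hB hD hk
  intro n
  induction n with
  | zero => intro H _ _ hn; exact absurd hn Nat.card_pos.not_ge
  | succ n ih =>
    intro H _ _ hn hps B D hB hD hk
    obtain ⟨χ, hχ⟩ := block_nonempty hM hB
    haveI : (Cfsg.pPrimeCore p H).Normal := Cores.pPrimeCore_normal p
    haveI := Fintype.ofFinite (Cfsg.pPrimeCore p H)
    obtain ⟨θ, hθ⟩ := exists_under (N := Cfsg.pPrimeCore p H) χ
    let T : Subgroup H :=
      { carrier := {g | conjIrr g θ = θ}
        one_mem' := conjIrr_one θ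
        mul_mem' := fun {a c} ha hc => by
          show conjIrr (a * c) θ = θ
          rw [← conjIrr_conjIrr, show conjIrr a θ = θ from ha, show conjIrr c θ = θ from hc]
        inv_mem' := fun {a} ha => by
          show conjIrr a⁻¹ θ = θ
          conv_lhs => rw [← (show conjIrr a θ = θ from ha)]
          rw [conjIrr_conjIrr, mul_inv_cancel, conjIrr_one] }
    by_cases htop : T = ⊤
    · exact invariant_case hM hps rfl θ
        (fun g => show g ∈ T by rw [htop]; trivial) hB hχ hθ hD hk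
    · have hKT : Cfsg.pPrimeCore p H ≤ T := fun g hg => Subtype.ext (funext fun k => by
        rw [coe_conjIrr, Clifford.conjBy_apply]
        have := irr_isClassFunction θ k ⟨g, hg⟩
        convert this using 2
        exact Subtype.ext (by simp))
      refine stabiliser_case hM (PLocal.Cores.not_dvd_card_pPrimeCore
        (Fact.out : p.Prime).ne_one) θ (fun g => Iff.rfl) hKT hB hχ hθ hD hk
        fun B' D' hB' hD' hk' => ih T ?_ (PLocal.PSolvable.subgroup hps T) B' D' hB' hD' hk'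
      have hlt : Nat.card T < Nat.card H := by
        refine lt_of_le_of_ne (Subgroup.card_le_card_group T) fun e => htop ?_
        exact Subgroup.eq_top_of_card_eq T e
      omega

end Cfsg.Agent.OneSubsection
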